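import Cfsg.Agent.Lib.Helper3.HNM.Chk0
import Cfsg.Agent.Lib.Helper3.HNM.Chk1
import Cfsg.Agent.Lib.Helper3.HNM.Chk2
import Cfsg.Agent.Lib.Helper3.HNM.Chk3
import Cfsg.Agent.Lib.Helper3.HNM.Chk4
import Cfsg.Agent.Lib.Helper3.HNM.Chk5
import Cfsg.Agent.Lib.Helper3.HNM.Chk6
import Cfsg.Agent.Lib.Helper3.HNM.Chk7
set_option autoImplicit false
set_option maxRecDepth 100000

namespace Cfsg.Agent.Lib.Helper3.HNM.Chk
open Cfsg.Agent.Lib.Helper3.HN Cfsg.Agent.Lib.Helper3.HNM.Tabs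

theorem chkAll : ∀ i, i < nFacts → checkEntry relTab nidTab pairTab chainTab i = true := by
  intro i hi
  have hi' : i < 2931 := hi
  rcases Nat.lt_or_ge i 400 with h0 | h0
  · exact (checkRange_iff _ _ _ _ 0 400).mp chk0 i (by omega) (by omega)
  rcases Nat.lt_or_ge i 800 with h1 | h1
  · exact (checkRange_iff _ _ _ _ 400 400).mp chk1 i (by omega) (by omega)
  rcases Nat.lt_or_ge i 1200 with h2 | h2
  · exact (checkRange_iff _ _ _ _ 800 400).mp chk2 i (by omega) (by omega)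
  rcases Nat.lt_or_ge i 1600 with h3 | h3
  · exact (checkRange_iff _ _ _ _ 1200 400).mp chk3 i (by omega) (by omega)
  rcases Nat.lt_or_ge i 2000 with h4 | h4
  · exact (checkRange_iff _ _ _ _ 1600 400).mp chk4 i (by omega) (by omega)
  rcases Nat.lt_or_ge i 2400 with h5 | h5
  · exact (checkRange_iff _ _ _ _ 2000 400).mp chk5 i (by omega) (by omega)
  rcases Nat.lt_or_ge i 2800 with h6 | h6
  · exact (checkRange_iff _ _ _ _ 2400 400).mp chk6 i (by omega) (by omega)
  exact (checkRange_iff _ _ _ _ 2800 131).mp chk7 i (by omega) (by omega)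

end Cfsg.Agent.Lib.Helper3.HNM.Chk
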