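import Cfsg.Agent.Lib.Helper3.HNM.Tabs
set_option autoImplicit false
set_option maxRecDepth 100000

namespace Cfsg.Agent.Lib.Helper3.HNM.FinalData
open Cfsg.Agent.Lib.Helper3.HN Cfsg.Agent.Lib.Helper3.HNM.Tabs

/-- the representatives of the double cosets -/
def roots : List Wd := [[], [5], [5, 0, 0, 4, 5], [5, 4, 2, 1, 5], [5, 0, 4, 2, 1, 2, 4, 5], [5, 0, 4, 2, 4, 3, 3, 0, 4, 5], [5, 0, 0, 4, 5, 0, 0, 2, 4, 5], [5, 0, 4, 2, 1, 2, 4, 5, 2, 0, 4, 3, 4, 3, 0, 2, 2, 2, 4, 5], [5, 0, 0, 4, 5, 0, 0, 2, 4, 5, 1, 3, 4, 5]]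

/-- generators of the stabilisers: orbit, index of the fact, word -/
def gensData : List (ℕ × ℕ × Wd) := [(1, 10, [2]), (1, 77, [1, 2, 0]), (2, 222, [3, 0, 2, 1, 3]), (2, 363, [2, 0, 2, 2, 1, 2]), (2, 533, [2, 0, 2, 0, 3, 1, 3, 1]), (2, 714, [0, 4, 1, 1]), (3, 227, [2, 2, 2]), (3, 369, [3, 0, 2, 2, 1]), (3, 386, [2, 0, 2, 2, 2, 1, 3]), (3, 525, [0, 3, 0, 0, 2, 1]), (3, 718, [0, 3, 0, 4, 1, 2, 1]), (3, 1938, [0, 2, 2, 0, 4, 2, 2, 2, 4, 3, 3, 3, 4, 1, 3, 3, 1]), (4, 391, [2, 0, 2, 2, 1, 2]), (4, 625, [3, 3, 0, 2, 2, 1, 3, 3]), (4, 729, [0, 2, 0, 2, 2, 1, 2, 1]), (4, 956, [2, 0, 3, 1, 2, 4, 3, 1, 2, 1, 3]), (4, 2104, [2, 1, 3, 3, 4, 2, 2, 2, 4, 2, 2, 0, 3]), (5, 643, [3, 0, 3, 0, 3, 1, 3, 1]), (5, 984, [0, 3, 0, 3, 0, 2, 2, 1,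 2, 2, 1, 2, 1]), (5, 990, [0, 3, 3, 0, 3, 0, 2, 2, 1, 2, 1, 2, 1]), (5, 2723, [2, 0, 3, 0, 2, 2, 0, 4, 3, 3, 4, 2, 4, 2, 1, 3, 3, 1, 2, 1, 3, 1]), (6, 660, [2, 1, 3, 3, 0, 2, 0, 2, 1]), (6, 667, [3, 1, 3, 0, 3, 0, 3, 1]), (6, 855, [0, 2, 0, 2, 2, 2, 1, 3, 1]), (6, 1965, [4, 3, 3, 0, 3, 0, 2, 2, 2, 1, 3, 1, 3, 4]), (6, 2484, [0, 3, 3, 4, 3, 3, 4, 3, 3, 4, 3, 1, 3, 3, 4, 3, 3, 1, 3, 1, 2, 1, 2, 1, 3, 3, 4, 1]), (7, 2319, [2, 2, 2, 0, 2, 2, 2, 1, 2, 0, 2, 2, 0, 3, 1, 2, 2, 1, 2]), (7, 2583, [2, 0, 2, 2, 2, 0, 3, 3, 0, 2, 2, 0, 3, 3, 3, 1, 2, 1, 3, 3, 1, 3, 1]), (7, 2590, [2, 2, 2, 0, 3, 0, 3, 0, 2, 0, 2, 2, 2, 4, 3, 3, 3, 0, 3, 1, 2, 1, 2, 1, 3, 3, 3]), (7, 2730, [3, 0, 2, 2, 0, 2, 0, 2, 0, 3, 0, 3, 3, 1, 4, 2, 2, 1, 2, 1, 3,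 1, 3, 1, 3, 3, 1, 2]), (7, 2842, [0, 3, 3, 0, 3, 0, 3, 0, 2, 2, 2, 4, 0, 3, 1, 3, 1, 3, 3, 3, 1, 3]), (8, 1598, [3, 0, 3, 0, 3, 0, 3, 3, 0, 2, 1, 3, 1, 2, 1, 2, 2, 1, 2]), (8, 2027, [3, 0, 3, 0, 3, 3, 0, 3, 0, 2, 0, 2, 2, 1, 2, 1, 3, 1, 3, 3, 1, 3, 1, 3, 3]), (8, 2030, [3, 3, 0, 3, 3, 0, 2, 0, 3, 3, 1, 3, 1, 2, 1, 2]), (8, 2675, [0, 3, 3, 0, 3, 4, 2, 1, 2, 2, 1]), (8, 2679, [2, 0, 3]), (8, 2784, [0, 4]), (8, 2875, [0, 2, 2, 0, 3, 4, 3, 4, 2, 4, 2, 1, 3, 3, 1]), (8, 2886, [0, 2, 2, 0, 2, 0, 2, 0, 3, 0, 4, 2, 2, 1, 2, 2, 1, 2, 2])]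

/-- representatives: orbit, word, and for `j = 1, …, 4` the index of the fact and the orbit of the image -/
def repsData : List (ℕ × Wd × List (ℕ × ℕ)) := [(0, [], [(0, 1), (15, 1), (13, 1), (79, 1)]), (1, [], [(73, 1), (0, 1), (0, 1), (0, 0)]), (1, [4], [(208, 1), (356, 2), (83, 3), (86, 2)]), (1, [0, 4, 2, 1, 2, 4, 2], [(33, 4), (0, 2), (0, 2), (371, 4)]), (2, [0, 0], [(87, 1), (0, 1), (0, 2), (0, 3)]), (3, [0, 3, 0], [(211, 1), (0, 2), (0, 2), (0, 1)]), (1, [4, 2, 2, 4, 3, 4, 3], [(0, 5), (0, 5), (0, 5), (0, 5)]), (2, [2, 0, 2, 4, 2], [(0, 2), (0, 4), (0, 1), (0, 4)]), (2, [0, 2, 2, 2, 4], [(0, 4), (0, 2), (0, 6), (0, 6)]), (4, [0, 2, 0], [(0, 1), (0, 4), (0, 2), (0, 2)]), (4, [2, 2, 2, 4, 2, 2], [(0, 2), (0, 6), (0, 6),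 (0, 2)]), (4, [0, 3, 3, 0, 3, 0, 2, 0, 2, 2, 4], [(0, 3), (0, 4), (0, 6), (0, 6)]), (3, [0, 2, 0, 2, 4], [(0, 4), (0, 6), (0, 6), (0, 4)]), (5, [2, 0, 3, 1], [(0, 5), (0, 5), (0, 5), (0, 1)]), (5, [0, 2, 0, 3, 1, 4, 2, 2], [(0, 4), (0, 4), (0, 5), (0, 6)]), (4, [0, 3, 3, 4, 3, 4, 3, 4, 2, 2, 4, 2, 0, 2], [(0, 5), (0, 6), (0, 5), (0, 4)]), (5, [3, 3, 0, 4, 3, 0, 2, 2, 2], [(0, 2), (0, 5), (0, 6), (0, 6)]), (2, [2, 2, 2, 0, 3, 0, 3, 4, 3, 4, 2, 0], [(0, 6), (0, 5), (0, 5), (0, 6)]), (6, [0, 2, 2, 0, 2, 2, 0, 2, 0, 3, 3, 1], [(0, 2), (0, 4), (0, 2), (0, 6)]), (6, [0, 2, 2, 0, 3, 0, 3, 1, 2, 2, 4], [(0, 4), (0, 4), (0, 6), (0, 3)]), (4, [0, 2, 2, 4, 2, 2, 0, 3, 3, 4, 3, 1, 4, 2], [(0, 7), (0, 6), (0, 6), (0, 7)]), (6, [2, 2, 0,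 2, 0, 3, 0, 2, 2, 0, 3, 3, 0, 4], [(0, 5), (0, 4), (0, 4), (0, 5)]), (6, [0, 2, 2, 2, 0, 3, 3, 0, 2, 4], [(0, 5), (0, 5), (0, 6), (0, 2)]), (5, [3, 4, 3, 3, 4, 3, 3, 0, 3, 1], [(0, 5), (0, 6), (0, 7), (0, 6)]), (6, [2, 0, 2, 2, 4, 2, 2, 0, 4, 3, 4, 2, 2, 0, 3], [(0, 6), (0, 5), (0, 7), (0, 5)]), (6, [3, 0, 3, 3, 4, 2, 2, 4, 2, 0, 3, 4, 3, 3, 0], [(0, 7), (0, 7), (0, 6), (0, 4)]), (6, [0, 3, 4, 2, 0], [(2489, 6), (2604, 8), (0, 6), (0, 6)]), (6, [0, 2, 4, 2, 0, 2, 2, 2, 0, 2, 2, 0, 4], [(0, 6), (0, 6), (0, 6), (0, 6)]), (7, [4, 3, 3, 0, 2, 2, 0, 3, 0, 3], [(0, 6), (0, 6), (0, 7), (0, 4)]), (7, [0, 2, 0, 4, 3, 0, 3, 4, 3, 4, 3, 0, 2], [(0, 6), (0, 5), (0, 5), (0, 6)]), (7, [2, 0, 3, 0, 3, 3, 0, 3, 4, 3, 1, 4, 2, 2, 2], [(0, 7),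 (0, 7), (0, 7), (0, 7)]), (8, [0, 2, 0, 3], [(0, 6), (0, 6), (0, 6), (0, 6)]), (8, [0, 3, 0, 3, 0, 3, 3, 0, 4], [(0, 8), (0, 8), (0, 8), (0, 8)])]

/-- steps for maximality: root, `a`, `b`, `j`, index of the fact `N r_a n r_b = N r_j n'`, `n`, `n'` -/
def maxSteps : List (ℕ × ℕ × ℕ × ℕ × ℕ × Wd × Wd) := [(2, 2, 2, 1, 2887, [0], [4]), (3, 3, 3, 6, 2891, [3, 0], [0]), (3, 6, 3, 1, 2893, [4, 3], [1, 4]), (4, 4, 4, 1, 2896, [0, 2, 0, 2], [1]), (5, 5, 5, 1, 2900, [3, 0, 3, 3, 0], [0]), (6, 6, 6, 1, 2905, [4, 3], [0, 4]), (7, 7, 7, 1, 2923, [3, 0, 3, 0, 3], [4, 3, 4, 3, 4, 3, 4, 2, 2, 0]), (8, 8, 8, 3, 2928, [], [0, 2, 0, 2, 0, 3, 0, 3, 0, 2, 2]), (8, 3, 3, 6, 2929, [3, 0], [0]), (8, 6, 3, 1, 2930, [4, 3], [1, 4])]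

end Cfsg.Agent.Lib.Helper3.HNM.FinalData
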