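import Cfsg.Agent.Lib.Helper3.HNM.NidChk0
import Cfsg.Agent.Lib.Helper3.HNM.NidChk1
import Cfsg.Agent.Lib.Helper3.HNM.NidChk2
set_option autoImplicit false
set_option maxRecDepth 100000

namespace Cfsg.Agent.Lib.Helper3.HNM.NidChk
open Cfsg.Agent.Lib.Helper3.HN Cfsg.Agent.Lib.Helper3.HNM.Tabs Cfsg.Agent.Lib.Helper3.HN.NKit

theorem nidAll : ∀ j, j < 673 → nidOK (nidTab j) = true := by
  intro i hi
  rcases Nat.lt_or_ge i 250 with h0 | h0
  · exact (nidRange_iff nidTab 0 250).mp nchk0 i (by omega) (by omega)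
  rcases Nat.lt_or_ge i 500 with h1 | h1
  · exact (nidRange_iff nidTab 250 250).mp nchk1 i (by omega) (by omega)
  exact (nidRange_iff nidTab 500 173).mp nchk2 i (by omega) (by omega)

theorem nidTab_valid : ∀ j, ev HNRel.lt (nidTab j).1 = ev HNRel.lt (nidTab j).2 := by
  intro j
  rcases Nat.lt_or_ge j 673 with h | h
  · exact ev_eq_of_nidOK (nidAll j h)
  · have hb : Nat.blt j 673 = false := by
      rw [← Bool.not_eq_true, Nat.blt_eq]; omega
    unfold nidTab
    rw [hb]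
    rfl

end Cfsg.Agent.Lib.Helper3.HNM.NidChk
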