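import Cfsg.Agent.Lib.Helper3.HN.HNRel
import Cfsg.Agent.Lib.Helper3.HNM.Tabs
set_option autoImplicit false
set_option maxRecDepth 100000

namespace Cfsg.Agent.Lib.Helper3.HNM.RelOK
open Cfsg.Agent.Lib.Helper3.HN Cfsg.Agent.Lib.Helper3.HN.HNRel Cfsg.Agent.Lib.Helper3.HNM.Tabs

theorem relPairs_ok : relPairs.all pairOK = true := by decide +kernel

theorem relTab_valid : ∀ j, ev lt (relTab j).1 = ev lt (relTab j).2 := relTab_valid_of relPairs_ok

end Cfsg.Agent.Lib.Helper3.HNM.RelOK
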