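import Cfsg.Agent.Lib.Helper3.HN.Index
import Cfsg.Agent.Lib.Helper3.HNM.ChkAll
import Cfsg.Agent.Lib.Helper3.HNM.RelOK
import Cfsg.Agent.Lib.Helper3.HNM.NidAll
import Cfsg.Agent.Lib.Helper3.HNM.FinalData
import Cfsg.Agent.Lib.Helper21.HNDce.Cover
import Cfsg.Agent.Lib.Helper21.HNTrans

set_option autoImplicit false
set_option maxRecDepth 100000
set_option linter.unusedVariables false

/-!
# `N = ⟨x, y, z⟩` is a maximal subgroup of the presented group `Spor.HN`

`HN` is the union of the nine double cosets `N r i N`; a subgroup properly containing `N` contains some `r i` with `i ≠ 0`,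
and `t ∈ ⟨N, r i⟩` for all these `i` (a second certificate of chains of words).
-/

namespace Cfsg.Agent.Lib.Helper3.HNM.Max

open Cfsg
open Cfsg.Agent.Lib.Helper3.HN Cfsg.Agent.Lib.Helper3.HN.HNRel
open Cfsg.Agent.Lib.Helper3.HN.Index (N r rootW lt_mem_N all_double hgen gx_mem gy_mem gz_mem index_N)
open Cfsg.Agent.Lib.Helper3.HNM.Tabs Cfsg.Agent.Lib.Helper3.HNM.FinalData

/-- all the facts of the second certificate hold -/
theorem factsM : ∀ i, i < nFacts → Cfsg.Agent.Lib.Helper3.HN.Rel lt N (pairTab i).1 (pairTab i).2 :=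
  rel_of_check relTab nidTab pairTab chainTab lt_mem_N Cfsg.Agent.Lib.Helper3.HNM.RelOK.relTab_valid
    Cfsg.Agent.Lib.Helper3.HNM.NidChk.nidTab_valid nFacts Cfsg.Agent.Lib.Helper3.HNM.Chk.chkAll

/-- check of a step -/
def stepOK (e : ℕ × ℕ × ℕ × ℕ × ℕ × Wd × Wd) : Bool :=
  and (and (Nat.blt e.2.2.2.2.1 nFacts) (and (allN e.2.2.2.2.2.1) (allN e.2.2.2.2.2.2)))
    (and (wbeq (pairTab e.2.2.2.2.1).1 (rootW e.2.1 ++ (e.2.2.2.2.2.1 ++ rootW e.2.2.1)))
      (wbeq (pairTab e.2.2.2.2.1).2 (rootW e.2.2.2.1 ++ e.2.2.2.2.2.2)))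

theorem stepsOK : maxSteps.all stepOK = true := by decide +kernel

/-- a step: `r j ∈ ⟨N, r a, r b⟩` -/
theorem step_mem {e : ℕ × ℕ × ℕ × ℕ × ℕ × Wd × Wd} (h : stepOK e = true) (H : Subgroup Spor.HN) (hN : N ≤ H)
    (ha : r e.2.1 ∈ H) (hb : r e.2.2.1 ∈ H) : r e.2.2.2.1 ∈ H := by
  unfold stepOK at h
  simp only [Bool.and_eq_true] at h
  obtain ⟨⟨h1, h2, h3⟩, h4, h5⟩ := h
  have hlt : e.2.2.2.2.1 < nFacts := by simpa [Nat.blt_eq] using h1
  have hf := factsM _ hlt
  rw [(wbeq_iff _ _).mp h4, (wbeq_iff _ _).mp h5] at hf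
  unfold Cfsg.Agent.Lib.Helper3.HN.Rel at hf
  rw [ev_append, ev_append, ev_append] at hf
  have hn1 : ev lt e.2.2.2.2.2.1 ∈ H := hN (ev_mem_of_allN lt N lt_mem_N _ h2)
  have hn2 : ev lt e.2.2.2.2.2.2 ∈ H := hN (ev_mem_of_allN lt N lt_mem_N _ h3)
  have hm := hN hf
  have e1 : r e.2.2.2.1 = (ev lt (rootW e.2.1) * (ev lt e.2.2.2.2.2.1 * ev lt (rootW e.2.2.1)) *
      (ev lt (rootW e.2.2.2.1) * ev lt e.2.2.2.2.2.2)⁻¹)⁻¹ *
      (r e.2.1 * ev lt e.2.2.2.2.2.1 * r e.2.2.1) * (ev lt e.2.2.2.2.2.2)⁻¹ := by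
    unfold r
    group
  rw [e1]
  exact H.mul_mem (H.mul_mem (H.inv_mem hm) (H.mul_mem (H.mul_mem ha hn1) hb)) (H.inv_mem hn2)

/-- the roots reached by the steps for the root `i` -/
def runSteps (i : ℕ) : List (ℕ × ℕ × ℕ × ℕ × ℕ × Wd × Wd) → List ℕ → List ℕ
  | [], mem => mem
  | e :: es, mem =>
    cond (and (Nat.beq e.1 i) (and (mem.contains e.2.1) (mem.contains e.2.2.1)))
      (runSteps i es (e.2.2.2.1 :: mem)) (runSteps i es mem)

theorem runSteps_mem (i : ℕ) (H : Subgroup Spor.HN) (hN : N ≤ H) :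
    ∀ (es : List (ℕ × ℕ × ℕ × ℕ × ℕ × Wd × Wd)), (∀ e ∈ es, stepOK e = true) →
      ∀ mem : List ℕ, (∀ k ∈ mem, r k ∈ H) → ∀ k ∈ runSteps i es mem, r k ∈ H := by
  intro es
  induction es with
  | nil => intro _ mem hmem k hk; exact hmem k hk
  | cons e es ih =>
    intro hes mem hmem k hk
    simp only [runSteps] at hk
    cases hc : (and (Nat.beq e.1 i) (and (mem.contains e.2.1) (mem.contains e.2.2.1))) with
    | false =>
      rw [hc] at hk
      exact ih (fun e' he' => hes e' (List.mem_cons_of_mem _ he')) mem hmem k hk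
    | true =>
      rw [hc] at hk
      simp only [Bool.and_eq_true, List.contains_iff_mem] at hc
      refine ih (fun e' he' => hes e' (List.mem_cons_of_mem _ he')) _ ?_ k hk
      intro k' hk'
      rcases List.mem_cons.mp hk' with rfl | hk'
      · exact step_mem (hes e List.mem_cons_self) H hN (hmem _ hc.2.1) (hmem _ hc.2.2)
      · exact hmem k' hk'

theorem reach1 : ∀ i, 2 ≤ i → i < 9 → (runSteps i maxSteps [0, i]).contains 1 = true := by decide +kernel

theorem r_one : r 1 = HNRel.gt := by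
  show ev lt [5] = HNRel.gt
  simp [ev, lt]

theorem r_zero : r 0 = 1 := rfl

/-- `t ∈ ⟨N, r i⟩` -/
theorem t_mem (i : ℕ) (h0 : i ≠ 0) (hi : i < 9) :
    HNRel.gt ∈ Subgroup.closure ((N : Set Spor.HN) ∪ {r i}) := by
  set H := Subgroup.closure ((N : Set Spor.HN) ∪ {r i}) with hH
  have hN : N ≤ H := fun g hg => Subgroup.subset_closure (Or.inl hg)
  have hri : r i ∈ H := Subgroup.subset_closure (Or.inr rfl)
  rcases Nat.lt_or_ge i 2 with h | h
  · have : i = 1 := by omega
    subst this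
    rw [← r_one]
    exact hri
  · have h1 := reach1 i h hi
    rw [List.contains_iff_mem] at h1
    have := runSteps_mem i H hN maxSteps (fun e he => (List.all_eq_true.mp stepsOK) e he) [0, i] (by
      intro k hk
      simp only [List.mem_cons, List.mem_nil_iff, or_false] at hk
      rcases hk with rfl | rfl
      · rw [r_zero]; exact H.one_mem
      · exact hri) 1 h1
    rw [← r_one]
    exact this

/-- `N` is a maximal subgroup -/
theorem isCoatom_N : IsCoatom N := by
  have hidx := index_N Cfsg.Agent.Lib.Helper21.HNTrans.trans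
  have hne : N ≠ ⊤ := by
    intro h
    rw [h, Subgroup.index_top] at hidx
    omega
  have hgen' : Subgroup.closure ((N : Set Spor.HN) ∪ {HNRel.gt}) = ⊤ := by
    rw [eq_top_iff, ← hgen]
    apply (Subgroup.closure_le _).mpr
    intro g hg
    rcases hg with rfl | rfl | rfl | rfl
    · exact Subgroup.subset_closure (Or.inl gx_mem)
    · exact Subgroup.subset_closure (Or.inl gy_mem)
    · exact Subgroup.subset_closure (Or.inl gz_mem)
    · exact Subgroup.subset_closure (Or.inr rfl)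
  refine Cfsg.Agent.Lib.Helper21.HNDce.isCoatom_of_cover N HNRel.gt hne hgen' (fun i : Fin 9 => r i.val)
    ⟨0, by norm_num⟩ r_zero ?_ ?_
  · intro g
    obtain ⟨i, hi, n, hn, n', hn', e⟩ := all_double g
    exact ⟨⟨i, hi⟩, n, hn, n', hn', e⟩
  · intro i hi
    exact t_mem i.val (fun h => hi (Fin.ext h)) i.2

end Cfsg.Agent.Lib.Helper3.HNM.Max
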